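import Mathlib.AlgebraicGeometry.AffineSpace
import Mathlib.RingTheory.Jacobson.Ring
import Mathlib.AlgebraicGeometry.Morphisms.QuasiFinite

/-!
# Points of affine space whose coordinates are closed are closed
-/

set_option autoImplicit false

universe u

open CategoryTheory CategoryTheory.Limits AlgebraicGeometry MvPolynomial Topology

namespace Groth.Agent.FinSupp9

variable (k : Type u) [Field k]

set_option backward.isDefEq.respectTransparency.types false in
theorem specIso_inv_reindex {n m : Type u} (f : m → n) :
    (AffineSpace.SpecIso n (CommRingCat.of k)).inv ≫ AffineSpace.reindex f _ =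
      Spec.map (CommRingCat.ofHom (MvPolynomial.rename f : MvPolynomial m k →ₐ[k] MvPolynomial n k).toRingHom) ≫
        (AffineSpace.SpecIso m (CommRingCat.of k)).inv := by
  apply AffineSpace.hom_ext
  · rw [Category.assoc, AffineSpace.reindex_over, AffineSpace.SpecIso_inv_over, Category.assoc,
      AffineSpace.SpecIso_inv_over, ← Spec.map_comp]
    congr 1
    exact CommRingCat.hom_ext (RingHom.ext fun r => (rename_C f r).symm)
  · intro i
    simp only [TopologicalSpace.Opens.map_top, Scheme.Hom.comp_app, CommRingCat.comp_apply]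
    conv_lhs => enter [2]; tactic => exact AffineSpace.reindex_appTop_coord _ _ _
    conv_rhs => enter [2]; tactic => exact AffineSpace.SpecIso_inv_appTop_coord _ _
    rw [AffineSpace.SpecIso_inv_appTop_coord, ← CommRingCat.comp_apply, ← Scheme.ΓSpecIso_inv_naturality,
      CommRingCat.comp_apply]
    congr 1
    exact (rename_X f i).symm

theorem isMaximal_of_forall_rename {ι : Type u} [Finite ι] (P : Ideal (MvPolynomial ι k)) [P.IsPrime]
    (h : ∀ i, (P.comap (rename (fun _ : PUnit.{u + 1} => i) :
      MvPolynomial PUnit.{u + 1} k →ₐ[k] MvPolynomial ι k).toRingHom).IsMaximal) : P.IsMaximal := by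
  let π : MvPolynomial ι k →ₐ[k] MvPolynomial ι k ⧸ P := Ideal.Quotient.mkₐ k P
  have hX : ∀ i, IsIntegral k (π (X i)) := by
    intro i
    let g : MvPolynomial PUnit.{u + 1} k →ₐ[k] MvPolynomial ι k := rename fun _ => i
    haveI : (P.comap g.toRingHom).IsMaximal := h i
    let J := P.comap g.toRingHom
    letI : Field (MvPolynomial PUnit.{u + 1} k ⧸ J) := Ideal.Quotient.field J
    haveI : Algebra.FiniteType k (MvPolynomial PUnit.{u + 1} k ⧸ J) :=
      Algebra.FiniteType.of_surjective (Ideal.Quotient.mkₐ k J) (Ideal.Quotient.mkₐ_surjective k J)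
    haveI : Module.Finite k (MvPolynomial PUnit.{u + 1} k ⧸ J) :=
      finite_of_finite_type_of_isJacobsonRing k _
    have hi : IsIntegral k (Ideal.Quotient.mkₐ k J (X PUnit.unit)) :=
      (Algebra.IsIntegral.of_finite k _).isIntegral _
    let q : MvPolynomial PUnit.{u + 1} k ⧸ J →ₐ[k] MvPolynomial ι k ⧸ P :=
      Ideal.Quotient.liftₐ J (π.comp g) fun a ha => by
        simpa [π, J, Ideal.Quotient.eq_zero_iff_mem] using ha
    have h2 := hi.map q
    simpa [q, π, g] using h2
  haveI : Algebra.IsIntegral k (MvPolynomial ι k ⧸ P) := by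
    refine ⟨fun y => ?_⟩
    obtain ⟨p, rfl⟩ := Ideal.Quotient.mkₐ_surjective k P y
    induction p using MvPolynomial.induction_on with
    | C a =>
      rw [← MvPolynomial.algebraMap_eq, AlgHom.commutes]
      exact isIntegral_algebraMap
    | add p q hp hq => rw [map_add]; exact hp.add hq
    | mul_X p i hp => rw [map_mul]; exact hp.mul (hX i)
  exact Ideal.Quotient.maximal_of_isField P
    (isField_of_isIntegral_of_isField' (R := k) (Field.toIsField k))

theorem isMaximal_of_ne_bot_punit (J : Ideal (MvPolynomial PUnit.{u + 1} k)) [J.IsPrime] (h : J ≠ ⊥) :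
    J.IsMaximal := by
  let e := (MvPolynomial.pUnitAlgEquiv.{u, u} k).toRingEquiv
  haveI : IsPrincipalIdealRing (MvPolynomial PUnit.{u + 1} k) :=
    IsPrincipalIdealRing.of_surjective e.symm.toRingHom e.symm.surjective
  exact IsPrime.to_maximal_ideal h

/-- A point of the affine line over a field which is not generic is closed. -/
theorem isClosed_singleton_of_ne_generic
    {y g : (𝔸(PUnit.{u + 1}; Spec (CommRingCat.of k)) : Scheme.{u})} (hg : closure {g} = Set.univ)
    (hy : y ≠ g) : IsClosed ({y} : Set (𝔸(PUnit.{u + 1}; Spec (CommRingCat.of k)) : Scheme.{u})) := by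
  let e := (AffineSpace.SpecIso PUnit.{u + 1} (CommRingCat.of k)).hom
  have hclosed : IsClosed ({e y} : Set (Spec (CommRingCat.of (MvPolynomial PUnit.{u + 1} k)))) := by
    refine (PrimeSpectrum.isClosed_singleton_iff_isMaximal (e y)).2 ?_
    haveI := (e y).isPrime
    refine isMaximal_of_ne_bot_punit k _ fun h0 => hy ?_
    have h1 : e y = e g := by
      have hgen : IsGenericPoint (e g) (Set.univ : Set (Spec (CommRingCat.of (MvPolynomial PUnit.{u + 1} k)))) := by
        have h2 := (show IsGenericPoint g Set.univ from hg).image e.continuous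
        rwa [Set.image_univ, show Set.range e = Set.univ from e.homeomorph.surjective.range_eq, closure_univ] at h2
      refine IsGenericPoint.eq ?_ hgen
      refine Set.eq_univ_of_forall fun z => ?_
      rw [← specializes_iff_mem_closure]
      exact (PrimeSpectrum.le_iff_specializes (e y) z).1 (by
        show (e y).asIdeal ≤ z.asIdeal
        rw [h0]; exact bot_le)
    exact e.homeomorph.injective h1
  have := hclosed.preimage e.continuous
  convert this using 1
  ext z
  exact ⟨fun hz => congrArg e hz, fun hz => e.homeomorph.injective hz⟩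

/-- A point of affine space all whose coordinates are non generic is closed. -/
theorem isClosed_singleton_affineSpace {ι : Type u} [Finite ι]
    (y : (𝔸(ι; Spec (CommRingCat.of k)) : Scheme.{u}))
    {g : (𝔸(PUnit.{u + 1}; Spec (CommRingCat.of k)) : Scheme.{u})} (hg : closure {g} = Set.univ)
    (h : ∀ i, AffineSpace.reindex (fun _ : PUnit.{u + 1} => i) _ y ≠ g) :
    IsClosed ({y} : Set (𝔸(ι; Spec (CommRingCat.of k)) : Scheme.{u})) := by
  let e := AffineSpace.SpecIso ι (CommRingCat.of k)
  have hclosed : IsClosed ({e.hom y} : Set (Spec (CommRingCat.of (MvPolynomial ι k)))) := by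
    refine (PrimeSpectrum.isClosed_singleton_iff_isMaximal (e.hom y)).2 ?_
    haveI := (e.hom y).isPrime
    refine isMaximal_of_forall_rename k _ fun i => ?_
    have h1 : AffineSpace.reindex (fun _ : PUnit.{u + 1} => i) _ y =
        (AffineSpace.SpecIso PUnit.{u + 1} (CommRingCat.of k)).inv
          (Spec.map (CommRingCat.ofHom (rename (fun _ : PUnit.{u + 1} => i) :
            MvPolynomial PUnit.{u + 1} k →ₐ[k] MvPolynomial ι k).toRingHom) (e.hom y)) := by
      rw [← Scheme.Hom.comp_apply, ← specIso_inv_reindex k (fun _ : PUnit.{u + 1} => i),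
        ← Scheme.Hom.comp_apply, Iso.hom_inv_id_assoc]
    have h2 := (isClosed_singleton_of_ne_generic k hg (h i)).preimage
      (AffineSpace.SpecIso PUnit.{u + 1} (CommRingCat.of k)).inv.continuous
    rw [h1] at h2
    have h3 : (AffineSpace.SpecIso PUnit.{u + 1} (CommRingCat.of k)).inv ⁻¹'
        {(AffineSpace.SpecIso PUnit.{u + 1} (CommRingCat.of k)).inv
          (Spec.map (CommRingCat.ofHom (rename (fun _ : PUnit.{u + 1} => i) :
            MvPolynomial PUnit.{u + 1} k →ₐ[k] MvPolynomial ι k).toRingHom) (e.hom y))} =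
        {Spec.map (CommRingCat.ofHom (rename (fun _ : PUnit.{u + 1} => i) :
            MvPolynomial PUnit.{u + 1} k →ₐ[k] MvPolynomial ι k).toRingHom) (e.hom y)} := by
      ext z
      exact ⟨fun hz => (AffineSpace.SpecIso PUnit.{u + 1} (CommRingCat.of k)).inv.homeomorph.injective hz,
        fun hz => congrArg _ hz⟩
    rw [h3] at h2
    exact (PrimeSpectrum.isClosed_singleton_iff_isMaximal _).1 h2
  have := hclosed.preimage e.hom.continuous
  convert this using 1
  ext z
  exact ⟨fun hz => congrArg e.hom hz, fun hz => e.hom.homeomorph.injective hz⟩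

/-- A closed subset of a noetherian scheme consisting of closed points is finite. -/
theorem finite_of_closed_points {U : Scheme.{u}} [TopologicalSpace.NoetherianSpace U]
    {S : Set U} (hS : IsClosed S) (h : ∀ x ∈ S, IsClosed ({x} : Set U)) : S.Finite := by
  obtain ⟨T, hT, hTc, hTi, hSe⟩ :=
    TopologicalSpace.NoetherianSpace.exists_finite_set_isClosed_irreducible hS
  rw [hSe]
  refine hT.sUnion fun Z hZ => ?_
  obtain ⟨z, hz⟩ := QuasiSober.sober (hTi Z hZ) (hTc Z hZ)
  have hzS : z ∈ S := hSe ▸ Set.subset_sUnion_of_mem hZ hz.mem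
  rw [← hz.def, (h z hzS).closure_eq]
  exact Set.finite_singleton z

/-- Points over closed points are closed for locally quasi-finite morphisms. -/
theorem isClosed_singleton_of_quasiFinite {U V : Scheme.{u}} (f : U ⟶ V) [LocallyQuasiFinite f]
    (x : U) (h : IsClosed ({f x} : Set V)) : IsClosed ({x} : Set U) := by
  refine closure_eq_iff_isClosed.1 (subset_antisymm (fun y hy => ?_) subset_closure)
  have hsp : x ⤳ y := specializes_iff_mem_closure.2 hy
  have hfy : f y = f x := by
    have := (hsp.map f.continuous).mem_closure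
    rwa [h.closure_eq] at this
  have hd : DiscreteTopology ↥(f ⁻¹' {f x}) := (f.isDiscrete_preimage_singleton (f x)).to_subtype
  have hsp' : (⟨x, rfl⟩ : f ⁻¹' {f x}) ⤳ ⟨y, hfy⟩ :=
    IsInducing.subtypeVal.specializes_iff.1 hsp
  exact (congrArg Subtype.val hsp'.eq).symm

end Groth.Agent.FinSupp9
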