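import Groth.Prelude.Def_EtShriek2
import Groth.Agent.Lib.FinSupp9.Points
import Groth.Agent.Lib.Constr24.NoethObj
import Groth.Agent.Lib.Constr24.IndConstr
import Groth.Agent.Lib.EtShriek24.Supp
import Groth.Agent.Lib.FieldBr3.CurveTor
import Groth.Agent.Lib.LocImm12.Noeth
import Groth.Agent.Lib.EtStalk.FiniteSplit

/-!
# A constructible subsheaf with quotient of finite support
-/

set_option autoImplicit false

universe u

open CategoryTheory CategoryTheory.Limits AlgebraicGeometry Opposite Topology
open Groth.Agent.EtStalk Groth.Agent.Constr24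

namespace Groth.Agent.FinSupp9

theorem isTorsion_of_killedBy {X : Scheme.{u}} {n : ℕ} (hn : 0 < n) {F : EtCoh.Ab X}
    (h : EtCoh.KilledBy n F) : EtCoh.IsTorsion F := by
  intro U s x
  exact ⟨U, 𝟙 U, ⟨x, rfl⟩, isOfFinAddOrder_iff_nsmul_eq_zero.2 ⟨n, hn, h _ _⟩⟩

/-- Some member of the diagram of constructible sheaves surjects after a pullback to a noetherian
scheme on which the sheaf becomes constructible. -/
theorem exists_epi_pull {X Z : Scheme.{u}} [CompactSpace X] [QuasiSeparatedSpace X] [IsNoetherian Z]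
    (p : Z ⟶ X) (F : EtCoh.Ab X) (hF : EtCoh.IsTorsion F)
    (hc : EtPBC.IsConstructible ((EtCoh.pull p).obj F)) :
    ∃ d : IndCat F, Epi ((EtCoh.pull p).map (indι d)) := by
  haveI := isFiltered_indCat (F := F)
  have hN : IsNoetherianObject ((EtCoh.pull p).obj F) :=
    (isConstructible_iff_noetherianObject _ (Groth.Agent.FieldBr3.isTorsion_pull' p hF)).1 hc
  haveI := hN
  haveI hwf : WellFoundedGT (Subobject ((EtCoh.pull p).obj F)) := inferInstance
  let P : Set (Subobject ((EtCoh.pull p).obj F)) :=
    Set.range fun d : IndCat F => imageSubobject ((EtCoh.pull p).map (indι d))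
  obtain ⟨M, ⟨d₀, hd₀⟩, hmax⟩ := hwf.wf.has_min P ⟨_, ⟨IsFiltered.nonempty.some, rfl⟩⟩
  refine ⟨d₀, ?_⟩
  let ψ := (EtCoh.pull p).map (indι d₀)
  have key : ∀ d, (EtCoh.pull p).map (indι d) ≫ cokernel.π ψ = 0 := by
    intro d
    let k := IsFiltered.max d₀ d
    have h0 : imageSubobject ψ ≤ imageSubobject ((EtCoh.pull p).map (indι k)) := by
      refine imageSubobject_le ψ ((EtCoh.pull p).map ((indDiag F).map (IsFiltered.leftToMax d₀ d)) ≫
        factorThruImageSubobject _) ?_
      rw [Category.assoc, imageSubobject_arrow_comp, ← Functor.map_comp, indι_w]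
    have h1 : imageSubobject ((EtCoh.pull p).map (indι k)) ≤ imageSubobject ψ := by
      rcases h0.lt_or_eq with hlt | heq
      · exact absurd hlt (by
          have := hmax _ ⟨k, rfl⟩
          rw [← hd₀] at this
          exact this)
      · exact heq.ge
    have h2 : (imageSubobject ψ).arrow ≫ cokernel.π ψ = 0 := by
      rw [← cancel_epi (factorThruImageSubobject ψ), imageSubobject_arrow_comp_assoc,
        cokernel.condition, comp_zero]
    rw [← indι_w (IsFiltered.rightToMax d₀ d), Functor.map_comp, Category.assoc,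
      ← imageSubobject_arrow_comp ((EtCoh.pull p).map (indι k)), ← Subobject.ofLE_arrow h1,
      Category.assoc, Category.assoc, h2, comp_zero, comp_zero, comp_zero]
  obtain ⟨hcol⟩ := nonempty_isColimit_indCocone hF
  haveI := (EtCoh.pullPushAdj p).leftAdjoint_preservesColimits
  have hπ : cokernel.π ψ = 0 := (isColimitOfPreserves (EtCoh.pull p) hcol).hom_ext fun d => (key d).trans comp_zero.symm
  exact Abelian.epi_of_cokernel_π_eq_zero _ hπ

/-- A point in the support of a section does not map into the range of a morphism pulling back the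
sheaf to zero. -/
theorem eq_zero_of_isZero_pull {X Z : Scheme.{u}} (p : Z ⟶ X) (G : EtCoh.Ab X)
    (hG : IsZero ((EtCoh.pull p).obj G)) {U : X.Etale} (s : EtCoh.sect G U) (x : U.left) (z : Z)
    (hz : p z = U.hom x) : x ∉ EtShriek.sectSupp G U s := by
  rw [EtShriek24.sectSupp_eq, Set.mem_compl_iff, not_not]
  let ξ := geomPt Z z ≫ p
  have hξ : ξ (default : Spec (CommRingCat.of (SeparableClosure (Z.residueField z)))) = U.hom x := by
    show (geomPt Z z ≫ p) default = _
    rw [Scheme.Hom.comp_apply, geomPt_default, hz]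
  obtain ⟨φ, hφ⟩ := Scheme.pointSmallEtaleFiberObjToPreimage_surjective ξ hξ U ⟨x, rfl⟩
  have hx : fibPt φ = x := congrArg Subtype.val hφ
  have h0 : IsZero ((EtCoh.stalk ξ).obj G) :=
    (Functor.map_isZero (EtCoh.stalk (geomPt Z z)) hG).of_iso
      (asIso (stalkPull p (geomPt Z z) G))
  haveI := AddCommGrpCat.subsingleton_of_isZero h0
  have h1 := (mem_agree_iff_germ G φ s 0).2 (Subsingleton.elim _ _)
  rwa [hx] at h1

theorem exists_constructible_sub {k : Type u} [Field k] (m : ℕ)
    (hm : IsUnit (m : k)) {ι : Type u} [Finite ι] {X : Scheme.{u}}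
    (e : X ⟶ 𝔸(ι; Spec (CommRingCat.of k))) [IsImmersion e]
    (F : EtCoh.Ab X) (hFm : EtCoh.KilledBy m F)
    {Ω : Type u} [Field Ω] [IsSepClosed Ω] (η : Spec (CommRingCat.of Ω) ⟶ 𝔸(PUnit.{u + 1}; Spec (CommRingCat.of k)))
    (hη : closure (Set.range η.base) = Set.univ)
    (hF : ∀ i : ι, EtPBC.IsConstructible
      ((EtCoh.pull (pullback.fst (e ≫ AffineSpace.reindex (fun _ : PUnit.{u + 1} => i) _) η)).obj F)) :
    ∃ (F' : EtCoh.Ab X) (u : F' ⟶ F), Mono u ∧ EtPBC.IsConstructible F' ∧
      ∀ (U : X.Etale) [CompactSpace ↥U.left] (s : EtCoh.sect (cokernel u) U),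
        (EtShriek.sectSupp (cokernel u) U s).Finite := by
  classical
  cases nonempty_fintype ι
  have hm0 : 0 < m := by
    rcases Nat.eq_zero_or_pos m with h | h
    · subst h; simp at hm
    · exact h
  have hFt := isTorsion_of_killedBy hm0 hFm
  haveI : IsNoetherianRing (MvPolynomial ι k) := inferInstance
  haveI : IsNoetherian (𝔸(ι; Spec (CommRingCat.of k)) : Scheme.{u}) :=
    Groth.Agent.LocImm12.isNoetherian_of_finiteType (AffineSpace.SpecIso ι (CommRingCat.of k)).hom
  haveI : TopologicalSpace.NoetherianSpace X := e.isEmbedding.isInducing.noetherianSpace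
  haveI : QuasiCompact e := quasiCompact_of_compactSpace e
  haveI : IsNoetherian X := Groth.Agent.LocImm12.isNoetherian_of_finiteType e
  haveI := isFiltered_indCat (F := F)
  let g : ι → (X ⟶ (𝔸(PUnit.{u + 1}; Spec (CommRingCat.of k)) : Scheme.{u})) := fun i =>
    e ≫ AffineSpace.reindex (fun _ : PUnit.{u + 1} => i) _
  haveI : ∀ i, LocallyOfFiniteType (g i) := fun i => by
    haveI : LocallyOfFiniteType (g i ≫ (𝔸(PUnit.{u + 1}; Spec (CommRingCat.of k)) ↘
        Spec (CommRingCat.of k))) := by
      rw [Category.assoc, AffineSpace.reindex_over]; infer_instance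
    exact locallyOfFiniteType_of_comp _ (𝔸(PUnit.{u + 1}; Spec (CommRingCat.of k)) ↘ Spec (CommRingCat.of k))
  haveI : ∀ i, QuasiCompact (g i) := fun i => quasiCompact_of_compactSpace (g i)
  have hd : ∀ i, ∃ d : IndCat F, Epi ((EtCoh.pull (pullback.fst (g i) η)).map (indι d)) := fun i => by
    haveI : IsNoetherian (pullback (g i) η) :=
      Groth.Agent.LocImm12.isNoetherian_of_finiteType (pullback.snd (g i) η)
    exact exists_epi_pull _ F hFt (hF i)
  choose d hd using hd
  obtain ⟨D, hD⟩ := IsFiltered.sup_objs_exists (Finset.univ.image d)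
  have hepi : ∀ i, Epi ((EtCoh.pull (pullback.fst (g i) η)).map (indι D)) := fun i => by
    obtain ⟨f⟩ := hD (Finset.mem_image_of_mem d (Finset.mem_univ i))
    haveI := hd i
    refine epi_of_epi_fac (f := (EtCoh.pull (pullback.fst (g i) η)).map ((indDiag F).map f))
      (h := (EtCoh.pull (pullback.fst (g i) η)).map (indι (d i))) ?_
    rw [← Functor.map_comp, indι_w]
  let u := (imageSubobject (indι D)).arrow
  refine ⟨_, u, inferInstance, isConstructible_imageSubobject _ (isConstructible_indDiag D), ?_⟩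
  intro U _ s
  let q : U.left ⟶ X := U.hom
  haveI hU : AlgebraicGeometry.Etale q := U.prop
  haveI : IsLocallyNoetherian U.left := LocallyOfFiniteType.isLocallyNoetherian q
  haveI : IsNoetherian U.left := ⟨⟩
  refine finite_of_closed_points (EtShriek24.isClosed_sectSupp _ U s) fun x hx => ?_
  haveI := Groth.Agent.FiniteSplit.locallyQuasiFinite_of_etale q
  haveI : LocallyQuasiFinite (q ≫ e) := inferInstance
  refine isClosed_singleton_of_quasiFinite (q ≫ e) x ?_
  refine isClosed_singleton_affineSpace k _ (g := η (default : Spec (CommRingCat.of Ω))) ?_ fun i hi => ?_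
  · refine Eq.trans (congrArg closure ?_) hη
    exact (Set.range_unique (f := η.base)).symm
  · obtain ⟨z, hz, -⟩ := Scheme.Pullback.exists_preimage_pullback (f := g i) (g := η) (U.hom x) default hi
    refine eq_zero_of_isZero_pull (pullback.fst (g i) η) _ ?_ s x z hz hx
    haveI := hepi i
    haveI := (EtCoh.pullPushAdj (pullback.fst (g i) η)).leftAdjoint_preservesColimits
    haveI : Epi ((EtCoh.pull (pullback.fst (g i) η)).map u) :=
      epi_of_epi_fac (f := (EtCoh.pull (pullback.fst (g i) η)).map (factorThruImageSubobject (indι D)))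
        (h := (EtCoh.pull (pullback.fst (g i) η)).map (indι D))
        (by rw [← Functor.map_comp, imageSubobject_arrow_comp])
    exact (isZero_cokernel_of_epi ((EtCoh.pull (pullback.fst (g i) η)).map u)).of_iso
      (PreservesCokernel.iso (EtCoh.pull (pullback.fst (g i) η)) u)

end Groth.Agent.FinSupp9
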